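import Cfsg.Agent.UGT.I34.OnCode_m3
import Cfsg.Agent.KFacts.RgdChevCoord
import Cfsg.Agent.ChevFast.F4
import Cfsg.Agent.Lib.FinFast
import Cfsg.Agent.Prune
set_option linter.all false
prune_inst 0x7f00000000000000000000000000000000000000000000000000000000000000000000000000000000000000000000000000000000000000000000000000000000000000000000000000000000000000003fffffffffffffffffffffffffffbeffbdffffffff
open scoped Cfsg.Agent.FastGrp

/-!
# S3509, `F₄`: commutators of root elements in the `B₂` planes (helper899)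

`XX chevF4 4 k a` the root groups of `chevF4.group k`, `k` any field.

* `comm_P` : `a` long, `b` short, `⟨b, a⟩ = -1`, `⟨a, b⟩ = -2`: `⁅v, x⁆ = g f`, `g ∈ X (a + b)`, `f ∈ X (a + 2 b)` nontrivial;
* `comm_Q` : `a`, `b` orthogonal short roots, `2 ≠ 0`: `⁅v, x⁆ ∈ X (a + b)` nontrivial;
* `comm_R` : `a` long, `b ≠ a`, `⟨a, b⟩ ≥ 0`: the root groups commute.
-/

set_option autoImplicit false
set_option linter.unusedSectionVars false

namespace Cfsg.Agent.H899.RG.Short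

open CoxeterSystem Cfsg.Agent.ChevalleyStructure.CoxeterGeom Cfsg.Agent.Tits.Roots Cfsg.Agent.Tits.Core
  Cfsg.Agent.Tits Cfsg.Agent.Tits.RootComb Cfsg.Agent.Nodes.Comb Cfsg.Agent.Nodes.Reps Cfsg.Agent.Nodes.Coroot
  Cfsg.Agent.Nodes.BNOf Cfsg.Agent.Nodes.PosPair Cfsg.Agent.KFacts.RgdSL
open Cfsg.Lie Cfsg.Agent.ChevalleyStructure Cfsg.Agent.ChevalleyStructure.CoxeterGeomTypes
  Cfsg.Agent.ChevalleyStructure.Elts
  Cfsg.Agent.Nodes.RGDChev Cfsg.Agent.Nodes.KindF Cfsg.Agent.Nodes.KindChev Cfsg.Agent.UGT.U2.FOne.FFour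
open Cfsg.Agent.KFacts.RgdChevCoord (TT XX nc)
open scoped commutatorElement

universe u v

/-! ### tables -/

/-- the bilinear form -/
def B (r s : ℕ) : ℤ := qf AF d (vec chevF4 4 r) (vec chevF4 4 s)

def m1 (r s : ℕ) : ℕ := ((chevF4.commTerms r s).getD 0 (0, 0, 0, 0)).1
def c1 (r s : ℕ) : ℤ := ((chevF4.commTerms r s).getD 0 (0, 0, 0, 0)).2.1
def m2 (r s : ℕ) : ℕ := ((chevF4.commTerms r s).getD 1 (0, 0, 0, 0)).1
def c2 (r s : ℕ) : ℤ := ((chevF4.commTerms r s).getD 1 (0, 0, 0, 0)).2.1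

def longs : List ℕ := (List.range 48).filter fun r => B r r = 4
def shorts : List ℕ := (List.range 48).filter fun r => B r r = 2

private noncomputable def _root_.Cfsg.Agent.LsF.fedb80d_0 : {f // @Cfsg.Agent.Nodes.KindF.d = f} := ⟨_, by first | (delta Cfsg.Agent.Nodes.KindF.d; rewrite [Cfsg.Agent.LsF.vecCons_eq]; exact rfl) | exact rfl⟩
private noncomputable def _root_.Cfsg.Agent.LsF.fedb80d_1 : {f // @Cfsg.Lie.ChevalleyDatum.cartan = f} := ⟨_, by first | (delta Cfsg.Lie.ChevalleyDatum.cartan; rewrite [Cfsg.Agent.LsF.agetD_eq]; exact rfl) | exact rfl⟩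
private noncomputable def _root_.Cfsg.Agent.LsF.fedb80d_2 : {f // @Cfsg.Lie.ChevalleyDatum.simple = f} := ⟨_, by first | (delta Cfsg.Lie.ChevalleyDatum.simple; rewrite [Cfsg.Agent.LsF.agetD_eq]; exact rfl) | exact rfl⟩
private noncomputable def _root_.Cfsg.Agent.LsF.fedb80d_3 : {f // @Cfsg.Agent.ChevalleyStructure.CoxeterGeomTypes.cartanOf = f} := ⟨_, by first | (delta Cfsg.Agent.ChevalleyStructure.CoxeterGeomTypes.cartanOf; rewrite [Cfsg.Agent.LsF.fedb80d_1.2, Cfsg.Agent.LsF.fedb80d_2.2]; exact rfl) | exact rfl⟩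
private noncomputable def _root_.Cfsg.Agent.LsF.fedb80d_4 : {f // @Cfsg.Agent.UGT.U2.FOne.FFour.AF = f} := ⟨_, by first | (delta Cfsg.Agent.UGT.U2.FOne.FFour.AF; rewrite [Cfsg.Agent.LsF.fedb80d_3.2]; exact rfl) | exact rfl⟩
private noncomputable def _root_.Cfsg.Agent.LsF.fedb80d_5 : {f // @Cfsg.Agent.ChevalleyStructure.RootVecTab.dig = f} := ⟨_, by first | (delta Cfsg.Agent.ChevalleyStructure.RootVecTab.dig; rewrite [Cfsg.Agent.LsF.nmul_pat]; exact rfl) | exact rfl⟩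
private noncomputable def _root_.Cfsg.Agent.LsF.fedb80d_6 : {f // @Cfsg.Agent.ChevalleyStructure.RootVecTab.packTab = f} := ⟨_, by first | (delta Cfsg.Agent.ChevalleyStructure.RootVecTab.packTab; rewrite [Cfsg.Agent.LsF.instDecEq_eq, Cfsg.Agent.LsF.ite_eq]; exact rfl) | exact rfl⟩
private noncomputable def _root_.Cfsg.Agent.LsF.fedb80d_7 : {f // @Cfsg.Agent.ChevalleyStructure.RootVecTab.code = f} := ⟨_, by first | (delta Cfsg.Agent.ChevalleyStructure.RootVecTab.code; rewrite [Cfsg.Agent.LsF.fedb80d_6.2, Cfsg.Agent.LsF.nmul_pat, Cfsg.Agent.LsF.npow_pat]; exact rfl) | exact rfl⟩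
private noncomputable def _root_.Cfsg.Agent.LsF.fedb80d_8 : {f // @Cfsg.Agent.ChevalleyStructure.RootVec.rt = f} := ⟨_, by first | (delta Cfsg.Agent.ChevalleyStructure.RootVec.rt; rewrite [Cfsg.Agent.LsF.fedb80d_5.2, Cfsg.Agent.LsF.fedb80d_7.2, Cfsg.Agent.LsF.nsub_pat, Cfsg.Agent.LsF.isub_pat, Cfsg.Agent.LsF.icast_pat, Cfsg.Agent.LsF.decLt_eq, Cfsg.Agent.LsF.dAnd_eq, Cfsg.Agent.LsF.ite_eq]; exact rfl) | exact rfl⟩
private noncomputable def _root_.Cfsg.Agent.LsF.fedb80d_9 : {f // @Cfsg.Agent.Nodes.RGDChev.vec = f} := ⟨_, by first | (delta Cfsg.Agent.Nodes.RGDChev.vec; rewrite [Cfsg.Agent.LsF.fedb80d_8.2]; exact rfl) | exact rfl⟩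
private noncomputable def _root_.Cfsg.Agent.LsF.fedb80d_10 : {f // @Cfsg.Agent.H899.RG.Short.B = f} := ⟨_, by first | (delta Cfsg.Agent.H899.RG.Short.B Cfsg.Agent.Nodes.KindChev.qf Cfsg.Agent.ChevalleyStructure.CoxeterGeom.pairing; rewrite [Cfsg.Agent.LsF.sumF_pat, Cfsg.Agent.LsF.fedb80d_0.2, Cfsg.Agent.LsF.fedb80d_4.2, Cfsg.Agent.LsF.fedb80d_9.2, Cfsg.Agent.LsF.iadd_pat, Cfsg.Agent.LsF.imul_pat, Cfsg.Agent.LsF.iACM_eq]; exact rfl) | exact rfl⟩
private noncomputable def _root_.Cfsg.Agent.LsF.fedb80d_11 : {f // @Cfsg.Agent.H899.RG.Short.longs = f} := ⟨_, by first | (delta Cfsg.Agent.H899.RG.Short.longs; rewrite [Cfsg.Agent.LsF.fedb80d_10.2, Cfsg.Agent.LsF.filter_eq, Cfsg.Agent.LsF.range_eq, Cfsg.Agent.LsF.instIDecEq_eq, Cfsg.Agent.LsF.decide_eq]; exact rfl) | exact rfl⟩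
private noncomputable def _root_.Cfsg.Agent.LsF.fedb80d_12 : {f // @Cfsg.Agent.H899.RG.Short.shorts = f} := ⟨_, by first | (delta Cfsg.Agent.H899.RG.Short.shorts; rewrite [Cfsg.Agent.LsF.fedb80d_10.2, Cfsg.Agent.LsF.filter_eq, Cfsg.Agent.LsF.range_eq, Cfsg.Agent.LsF.instIDecEq_eq, Cfsg.Agent.LsF.decide_eq]; exact rfl) | exact rfl⟩
private noncomputable def _root_.Cfsg.Agent.LsF.fedb80d_13 : {f // @Cfsg.Lie.ChevalleyDatum.chainEntry = f} := ⟨_, by first | (delta Cfsg.Lie.ChevalleyDatum.chainEntry; rewrite [Cfsg.Agent.LsF.instDecEq_eq, Cfsg.Agent.LsF.find?_eq, Cfsg.Agent.LsF.agetD_eq, Cfsg.Agent.LsF.decide_eq]; (try delta Cfsg.Lie.ChevalleyDatum.chainEntry.match_1); (try delta Option.casesOn); exact rfl) | exact rfl⟩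
private noncomputable def _root_.Cfsg.Agent.LsF.fedb80d_14 : {f // @Cfsg.Lie.ChevalleyDatum.chainRoot = f} := ⟨_, by first | (delta Cfsg.Lie.ChevalleyDatum.chainRoot Option.map; rewrite [Cfsg.Agent.LsF.fedb80d_13.2, Cfsg.Agent.LsF.nsub_pat, Cfsg.Agent.LsF.instGetElem?_eq]; (try delta Option.getD.match_1); (try delta Option.casesOn); exact rfl) | exact rfl⟩
private noncomputable def _root_.Cfsg.Agent.LsF.fedb80d_15 : {f // @Cfsg.Lie.ChevalleyDatum.chainM = f} := ⟨_, by first | (delta Cfsg.Lie.ChevalleyDatum.chainM Option.map; rewrite [Cfsg.Agent.LsF.fedb80d_13.2, Cfsg.Agent.LsF.nsub_pat, Cfsg.Agent.LsF.instGetElem?_eq, Cfsg.Agent.LsF.ogetD_eq]; (try delta Option.getD.match_1); (try delta Option.casesOn); exact rfl) | exact rfl⟩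
private noncomputable def _root_.Cfsg.Agent.LsF.fedb80d_16 : {f // @Cfsg.Lie.ChevalleyDatum.commTerms = f} := ⟨_, by first | (delta Cfsg.Lie.ChevalleyDatum.commTerms Option.bind Option.map; rewrite [Cfsg.Agent.LsF.fedb80d_14.2, Cfsg.Agent.LsF.fedb80d_15.2, Cfsg.Agent.LsF.imul_pat, Cfsg.Agent.LsF.ineg_pat, Cfsg.Agent.LsF.filterMap_eq, Cfsg.Agent.LsF.ogetD_eq]; (try delta Option.bind.match_1); (try delta Option.getD.match_1); (try delta Option.casesOn); exact rfl) | exact rfl⟩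
private noncomputable def _root_.Cfsg.Agent.LsF.fedb80d_17 : {f // @Cfsg.Agent.H899.RG.Short.m1 = f} := ⟨_, by first | (delta Cfsg.Agent.H899.RG.Short.m1; rewrite [Cfsg.Agent.LsF.fedb80d_16.2, Cfsg.Agent.LsF.getD_eq]; exact rfl) | exact rfl⟩
private noncomputable def _root_.Cfsg.Agent.LsF.fedb80d_18 : {f // @Cfsg.Agent.H899.RG.Short.c1 = f} := ⟨_, by first | (delta Cfsg.Agent.H899.RG.Short.c1; rewrite [Cfsg.Agent.LsF.fedb80d_16.2, Cfsg.Agent.LsF.getD_eq]; exact rfl) | exact rfl⟩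
private noncomputable def _root_.Cfsg.Agent.LsF.fedb80d_19 : {f // @Cfsg.Agent.H899.RG.Short.m2 = f} := ⟨_, by first | (delta Cfsg.Agent.H899.RG.Short.m2; rewrite [Cfsg.Agent.LsF.fedb80d_16.2, Cfsg.Agent.LsF.getD_eq]; exact rfl) | exact rfl⟩
private noncomputable def _root_.Cfsg.Agent.LsF.fedb80d_20 : {f // @Cfsg.Agent.H899.RG.Short.c2 = f} := ⟨_, by first | (delta Cfsg.Agent.H899.RG.Short.c2; rewrite [Cfsg.Agent.LsF.fedb80d_16.2, Cfsg.Agent.LsF.getD_eq]; exact rfl) | exact rfl⟩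
set_option backward.isDefEq.respectTransparency false in
theorem tab_P : ∀ r ∈ longs, ∀ s ∈ shorts, B r s = -2 →
    chevF4.commTerms r s = [(m1 r s, c1 r s, 1, 1), (m2 r s, c2 r s, 1, 2)] ∧ m1 r s < 48 ∧ m2 r s < 48 ∧
      vec chevF4 4 (m1 r s) = vec chevF4 4 r + vec chevF4 4 s ∧
      vec chevF4 4 (m2 r s) = vec chevF4 4 r + 2 • vec chevF4 4 s ∧ c1 r s * c1 r s = 1 ∧ c2 r s * c2 r s = 1 := by
  (refine of_decide_eq_true ?_; (try (rewrite [Cfsg.Agent.LsF.padd_pat, Cfsg.Agent.LsF.dPiF_pat, Cfsg.Agent.LsF.fedb80d_11.2, Cfsg.Agent.LsF.fedb80d_12.2, Cfsg.Agent.LsF.fedb80d_10.2, Cfsg.Agent.LsF.fedb80d_16.2, Cfsg.Agent.LsF.fedb80d_17.2, Cfsg.Agent.LsF.fedb80d_18.2, Cfsg.Agent.LsF.fedb80d_19.2, Cfsg.Agent.LsF.fedb80d_20.2, Cfsg.Agent.LsF.fedb80d_9.2, Cfsg.Agent.LsF.iadd_pat, Cfsg.Agent.LsF.imul_pat, Cfsg.Agent.LsF.ineg_pat, Cfsg.Agent.LsF.dProdEq_eq, Cfsg.Agent.LsF.instDecEq_eq, Cfsg.Agent.LsF.decLt_eq,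 Cfsg.Agent.LsF.instIDecEq_eq, Cfsg.Agent.LsF.dAnd_eq, Cfsg.Agent.LsF.dBAll_eq, Cfsg.Agent.LsF.dListEq_eq, Cfsg.Agent.LsF.dAllP_eq, Cfsg.Agent.LsF.decide_eq])); decide +kernel)

set_option backward.isDefEq.respectTransparency false in
theorem tab_Q : ∀ r ∈ shorts, ∀ s ∈ shorts, B r s = 0 →
    chevF4.commTerms r s = [(m1 r s, c1 r s, 1, 1)] ∧ m1 r s < 48 ∧
      vec chevF4 4 (m1 r s) = vec chevF4 4 r + vec chevF4 4 s ∧ c1 r s * c1 r s = 4 := by
  (refine of_decide_eq_true ?_; (try (rewrite [Cfsg.Agent.LsF.padd_pat, Cfsg.Agent.LsF.dPiF_pat, Cfsg.Agent.LsF.fedb80d_12.2, Cfsg.Agent.LsF.fedb80d_10.2, Cfsg.Agent.LsF.fedb80d_16.2, Cfsg.Agent.LsF.fedb80d_17.2, Cfsg.Agent.LsF.fedb80d_18.2, Cfsg.Agent.LsF.fedb80d_9.2, Cfsg.Agent.LsF.iadd_pat, Cfsg.Agent.LsF.imul_pat, Cfsg.Agent.LsF.dProdEq_eq, Cfsg.Agent.LsF.instDecEq_eq, Cfsg.Agent.LsF.decLt_eq, Cfsg.Agent.LsF.instIDecEq_eq, Cfsg.Agent.LsF.dAnd_eq, Cfsg.Agent.LsF.dBAll_eq,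 Cfsg.Agent.LsF.dListEq_eq, Cfsg.Agent.LsF.dAllP_eq, Cfsg.Agent.LsF.decide_eq])); decide +kernel)

private noncomputable def _root_.Cfsg.Agent.LsF.fedb80d_21 : {f // @Cfsg.Agent.ChevFast.dz = f} := ⟨_, by first | (delta Cfsg.Agent.ChevFast.dz; rewrite [Cfsg.Agent.LsF.cond_eq]; exact rfl) | exact rfl⟩
private noncomputable def _root_.Cfsg.Agent.LsF.fedb80d_22 : {f // @Cfsg.Agent.ChevFast.gz = f} := ⟨_, by first | (delta Cfsg.Agent.ChevFast.gz; rewrite [Cfsg.Agent.LsF.fedb80d_21.2]; exact rfl) | exact rfl⟩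
private noncomputable def _root_.Cfsg.Agent.LsF.fedb80d_23 : {f // @Cfsg.Agent.ChevFast.cmG = f} := ⟨_, by first | (delta Cfsg.Agent.ChevFast.cmG Option.bind Option.map; rewrite [Cfsg.Agent.LsF.nsub_pat, Cfsg.Agent.LsF.imul_pat, Cfsg.Agent.LsF.ineg_pat, Cfsg.Agent.LsF.and_eq, Cfsg.Agent.LsF.cond_eq, Cfsg.Agent.LsF.filterMap_eq, Cfsg.Agent.LsF.instGetElem?_eq, Cfsg.Agent.LsF.isEmpty_eq, Cfsg.Agent.LsF.ogetD_eq]; (try delta Option.getD.match_1); (try delta Option.bind.match_1); (try delta Option.casesOn); exact rfl) | exact rfl⟩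
private noncomputable def _root_.Cfsg.Agent.LsF.fedb80d_24 : {f // @Cfsg.Agent.ChevFast.ceG = f} := ⟨_, by first | (delta Cfsg.Agent.ChevFast.ceG; rewrite [Cfsg.Agent.LsF.cond_eq]; exact rfl) | exact rfl⟩
private noncomputable def _root_.Cfsg.Agent.LsF.fedb80d_25 : {f // @Nat.pred = f} := ⟨_, by first | (delta Nat.pred; (try delta Nat.pow.match_1); (try delta Nat.casesOn); exact rfl) | exact rfl⟩
private noncomputable def _root_.Cfsg.Agent.LsF.fedb80d_26 : {f // @Cfsg.Agent.ChevFast.dc2 = f} := ⟨_, by first | (delta Cfsg.Agent.ChevFast.dc2; rewrite [Cfsg.Agent.LsF.fedb80d_25.2, Cfsg.Agent.LsF.fedb80d_21.2, Cfsg.Agent.LsF.cond_eq]; exact rfl) | exact rfl⟩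
set_option backward.isDefEq.respectTransparency false in
theorem tab_R : ∀ r ∈ longs, ∀ s ∈ List.range 48, s ≠ r → 0 ≤ B r s → chevF4.commTerms r s = [] := by
  (delta Cfsg.Agent.ChevalleyStructure.CoxeterGeomTypes.cartanOf Cfsg.Agent.H899.RG.Short.B Cfsg.Agent.H899.RG.Short.longs Cfsg.Agent.UGT.U2.FOne.FFour.AF; rewrite [Cfsg.Agent.ChevFast.F4.cartan, Cfsg.Agent.ChevFast.F4.commTerms]; (refine of_decide_eq_true ?_; (try (delta Cfsg.Agent.ChevalleyStructure.CoxeterGeom.pairing Cfsg.Agent.Nodes.KindChev.qf; rewrite [Cfsg.Agent.LsF.sumF_pat, Cfsg.Agent.LsF.fedb80d_0.2, Cfsg.Agent.LsF.fedb80d_22.2, Cfsg.Agent.LsF.fedb80d_2.2, Cfsg.Agent.LsF.fedb80d_9.2, Cfsg.Agent.LsF.fedb80d_23.2, Cfsg.Agent.LsF.fedb80d_24.2, Cfsg.Agent.LsF.fedb80d_26.2, Cfsg.Agent.LsF.iadd_pat, Cfsg.Agent.LsF.imul_pat, Cfsg.Agent.LsF.iACM_eq, Cfsg.Agent.LsF.instDecEq_eq, Cfsg.Agent.LsF.filter_eq, Cfsg.Agent.LsF.range_eq, Cfsg.Agent.LsF.instIDecEq_eq,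 Cfsg.Agent.LsF.idecLe_eq, Cfsg.Agent.LsF.dNot_eq, Cfsg.Agent.LsF.dBAll_eq, Cfsg.Agent.LsF.dAllP_eq, Cfsg.Agent.LsF.decide_eq])); decide +kernel))

/-! ### root elements -/

section Group

variable {K : Type u} [Field K]

/-- the root elements -/
noncomputable def ex (r : ℕ) (t : K) : ↥(chevF4.group K) := ⟨xG isType.inList r t, xG_mem_group isType.inList r t⟩

theorem ex_zero (r : ℕ) : ex r (0 : K) = 1 := Subtype.ext (xG_zero isType.inList r)

theorem ex_inj {r : ℕ} (hr : r < chevF4.nroots) {a b : K} (h : ex r a = ex r b) : a = b :=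
  xG_injective isType.inList hr (congrArg Subtype.val h)

theorem ex_ne {r : ℕ} (hr : r < chevF4.nroots) {a : K} (ha : a ≠ 0) : ex r a ≠ 1 := fun h =>
  ha (ex_inj hr (h.trans (ex_zero r).symm))

theorem mem_XX {r : ℕ} (hr : r < chevF4.nroots) {u : ↥(chevF4.group K)} :
    u ∈ XX chevF4 4 K (vec chevF4 4 r) ↔ ∃ t, ex r t = u := by
  rw [Subgroup.mem_subgroupOf, XV_vec isType K hr, mem_rootSubgroup_iff isType.inList]
  constructor
  · rintro ⟨t, ht⟩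
    exact ⟨t, Subtype.ext ht.symm⟩
  · rintro ⟨t, rfl⟩
    exact ⟨t, rfl⟩

theorem nroots : chevF4.nroots = 48 := by decide +kernel

/-- the commutator formula -/
theorem comm_ex {r s : ℕ} (hr : r < chevF4.nroots) (hs : s < chevF4.nroots) (hrs : s ≠ r) (hneg : s ≠ chevF4.neg r)
    (t u : K) : (⁅ex s u, ex r t⁆ : ↥(chevF4.group K)).1 = wordG isType.inList (chevF4.commWord K r s (-t) (-u)) := by
  have h1 := comm_xG isType (K := K) hr hs hrs hneg (-t) (-u)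
  rw [xG_inv, xG_inv, neg_neg, neg_neg] at h1
  exact h1

theorem ex_add (r : ℕ) (a b : K) : ex r a * ex r b = ex r (a + b) := Subtype.ext (xG_add isType.inList r a b)

end Group

/-! ### the norms -/

variable {W : Type v} [Group W] (cs : CoxeterSystem CoxeterMatrix.F₄ W)

theorem lt48 {r : ℕ} (hr : r < chevF4.nroots) : r < 48 := by rwa [nroots] at hr

theorem mem_longs {r : ℕ} (hr : r < chevF4.nroots) (h : B r r = 4) : r ∈ longs :=
  List.mem_filter.2 ⟨List.mem_range.2 (lt48 hr), by simpa using h⟩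

theorem mem_shorts {r : ℕ} (hr : r < chevF4.nroots) (h : B r r = 2) : r ∈ shorts :=
  List.mem_filter.2 ⟨List.mem_range.2 (lt48 hr), by simpa using h⟩

/-- the form and `cpr` -/
theorem cpr_qf {x y : Fin 4 → ℤ} (hy : IsRoot cs isType.isCartan y) :
    cpr cs isType.isCartan x y * qf AF d y y = 2 * qf AF d x y := by
  have : Finite W := finite_W isType cs
  exact cpr_mul_qf cs isType.isCartan kd.hd x hy

theorem qf_symm (x y : Fin 4 → ℤ) : qf AF d x y = qf AF d y x := qf_comm kd.hd x y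

theorem norms_R {a b : Fin 4 → ℤ} (ha : IsRoot cs isType.isCartan a) (hb : IsRoot cs isType.isCartan b)
    (h1 : cpr cs isType.isCartan b a = 1) (h2 : cpr cs isType.isCartan a b = 2) :
    qf AF d a a = 4 ∧ qf AF d b b = 2 ∧ qf AF d a b = 2 := by
  have e1 := cpr_qf cs (x := b) ha
  have e2 := cpr_qf cs (x := a) hb
  rw [h1, qf_symm b a] at e1
  rw [h2] at e2
  rcases norm_root cs ha with h3 | h3 <;> rcases norm_root cs hb with h4 | h4 <;> rw [h3] at e1 ⊢ <;>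
    rw [h4] at e2 ⊢ <;> omega

/-! ### commutators -/

variable {K : Type u} [Field K]

theorem cast_ne {c : ℤ} (h : c * c = 1) : (c : K) ≠ 0 := by
  intro h0
  have h1 : (c : K) * (c : K) = 1 := by exact_mod_cast congrArg (Int.cast : ℤ → K) h
  rw [h0, zero_mul] at h1
  exact zero_ne_one h1

theorem cast_ne4 (h2 : (2 : K) ≠ 0) {c : ℤ} (h : c * c = 4) : (c : K) ≠ 0 := by
  intro h0
  have h1 : (c : K) * (c : K) = 4 := by exact_mod_cast congrArg (Int.cast : ℤ → K) h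
  rw [h0, zero_mul] at h1
  have h3 : (2 : K) * 2 = 0 := by rw [h1]; norm_num
  rcases mul_eq_zero.1 h3 with h4 | h4 <;> exact h2 h4

/-- **`a` long, `b` short, at an obtuse angle.** -/
theorem comm_P {a b : Fin 4 → ℤ} (ha : IsRoot cs isType.isCartan a) (hb : IsRoot cs isType.isCartan b)
    (hna : qf AF d a a = 4) (hnb : qf AF d b b = 2) (hab : qf AF d a b = -2) {x v : ↥(chevF4.group K)}
    (hx : x ∈ XX chevF4 4 K a) (hx1 : x ≠ 1) (hv : v ∈ XX chevF4 4 K b) (hv1 : v ≠ 1) :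
    ∃ g ∈ XX chevF4 4 K (a + b), g ≠ 1 ∧ ∃ f ∈ XX chevF4 4 K (a + 2 • b), f ≠ 1 ∧ ⁅v, x⁆ = g * f := by
  obtain ⟨r, hr, rfl⟩ := (isRoot_iff isType cs a).1 ha
  obtain ⟨s, hs, rfl⟩ := (isRoot_iff isType cs b).1 hb
  obtain ⟨t, rfl⟩ := (mem_XX hr).1 hx
  obtain ⟨u, rfl⟩ := (mem_XX hs).1 hv
  have ht : t ≠ 0 := by rintro rfl; exact hx1 (ex_zero r)
  have hu : u ≠ 0 := by rintro rfl; exact hv1 (ex_zero s)
  obtain ⟨h1, h2, h3, h4, h5, h6, h7⟩ := tab_P r (mem_longs hr hna) s (mem_shorts hs hnb) hab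
  have hsr : s ≠ r := by
    rintro rfl
    rw [hna] at hnb
    omega
  have hneg : s ≠ chevF4.neg r := by
    rintro rfl
    rw [vec_neg isType hr] at hnb
    have e : qf AF d (-vec chevF4 4 r) (-vec chevF4 4 r) = qf AF d (vec chevF4 4 r) (vec chevF4 4 r) := by
      unfold qf pairing
      simp
    rw [e, hna] at hnb
    omega
  have hm1 : m1 r s < chevF4.nroots := by rw [nroots]; exact h2
  have hm2 : m2 r s < chevF4.nroots := by rw [nroots]; exact h3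
  refine ⟨ex (m1 r s) (-(c1 r s : K) * (t * u)), ?_, ex_ne hm1 ?_, ex (m2 r s) ((c2 r s : K) * (t * u ^ 2)), ?_,
    ex_ne hm2 ?_, ?_⟩
  · rw [← h4]
    exact (mem_XX hm1).2 ⟨_, rfl⟩
  · exact mul_ne_zero (neg_ne_zero.2 (cast_ne h6)) (mul_ne_zero ht hu)
  · rw [← h5]
    exact (mem_XX hm2).2 ⟨_, rfl⟩
  · exact mul_ne_zero (cast_ne h7) (mul_ne_zero ht (pow_ne_zero 2 hu))
  · apply Subtype.ext
    rw [comm_ex hr hs hsr hneg]
    have h8 : chevF4.commWord K r s (-t) (-u) = [(m1 r s, -(c1 r s : K) * (t * u)), (m2 r s, (c2 r s : K) * (t * u ^ 2))] := by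
      show (chevF4.commTerms r s).map _ = _
      rw [h1]
      simp only [List.map_cons, List.map_nil, neg_neg, pow_one, List.cons.injEq, Prod.mk.injEq, true_and, and_true]
      constructor <;> ring
    rw [h8, wordG_cons, wordG_cons, wordG_nil, mul_one]
    rfl

/-- **`a`, `b` orthogonal short roots.** -/
theorem comm_Q (h2 : (2 : K) ≠ 0) {a b : Fin 4 → ℤ} (ha : IsRoot cs isType.isCartan a)
    (hb : IsRoot cs isType.isCartan b) (hna : qf AF d a a = 2) (hnb : qf AF d b b = 2) (hab : qf AF d a b = 0)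
    {x v : ↥(chevF4.group K)} (hx : x ∈ XX chevF4 4 K a) (hv : v ∈ XX chevF4 4 K b) :
    ⁅v, x⁆ ∈ XX chevF4 4 K (a + b) ∧ (x ≠ 1 → v ≠ 1 → ⁅v, x⁆ ≠ 1) := by
  obtain ⟨r, hr, rfl⟩ := (isRoot_iff isType cs a).1 ha
  obtain ⟨s, hs, rfl⟩ := (isRoot_iff isType cs b).1 hb
  obtain ⟨t, rfl⟩ := (mem_XX hr).1 hx
  obtain ⟨u, rfl⟩ := (mem_XX hs).1 hv
  obtain ⟨h3, h4, h5, h6⟩ := tab_Q r (mem_shorts hr hna) s (mem_shorts hs hnb) hab
  have hsr : s ≠ r := by
    rintro rfl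
    rw [hna] at hab
    omega
  have hneg : s ≠ chevF4.neg r := by
    rintro rfl
    rw [vec_neg isType hr] at hab
    have e : qf AF d (vec chevF4 4 r) (-vec chevF4 4 r) = -qf AF d (vec chevF4 4 r) (vec chevF4 4 r) := by
      unfold qf pairing
      simp
    rw [e, hna] at hab
    omega
  have hm1 : m1 r s < chevF4.nroots := by rw [nroots]; exact h4
  have e : ⁅ex s u, ex r t⁆ = ex (m1 r s) (-(c1 r s : K) * (t * u)) := by
    apply Subtype.ext
    rw [comm_ex hr hs hsr hneg]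
    have h8 : chevF4.commWord K r s (-t) (-u) = [(m1 r s, -(c1 r s : K) * (t * u))] := by
      show (chevF4.commTerms r s).map _ = _
      rw [h3]
      simp only [List.map_cons, List.map_nil, neg_neg, pow_one, List.cons.injEq, Prod.mk.injEq, true_and, and_true]
      ring
    rw [h8, wordG_cons, wordG_nil, mul_one]
    rfl
  rw [e]
  refine ⟨?_, fun hx1 hv1 => ex_ne hm1 ?_⟩
  · rw [← h5]
    exact (mem_XX hm1).2 ⟨_, rfl⟩
  · have ht : t ≠ 0 := by rintro rfl; exact hx1 (ex_zero r)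
    have hu : u ≠ 0 := by rintro rfl; exact hv1 (ex_zero s)
    exact mul_ne_zero (neg_ne_zero.2 (cast_ne4 h2 h6)) (mul_ne_zero ht hu)

/-- **`a` long, `b` not at an obtuse angle.** -/
theorem comm_R {a b : Fin 4 → ℤ} (ha : IsRoot cs isType.isCartan a) (hb : IsRoot cs isType.isCartan b)
    (hna : qf AF d a a = 4) (hab : 0 ≤ qf AF d a b) {x v : ↥(chevF4.group K)}
    (hx : x ∈ XX chevF4 4 K a) (hv : v ∈ XX chevF4 4 K b) : v * x = x * v := by
  obtain ⟨r, hr, rfl⟩ := (isRoot_iff isType cs a).1 ha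
  obtain ⟨s, hs, rfl⟩ := (isRoot_iff isType cs b).1 hb
  obtain ⟨t, rfl⟩ := (mem_XX hr).1 hx
  obtain ⟨u, rfl⟩ := (mem_XX hs).1 hv
  by_cases hsr : s = r
  · subst hsr
    rw [ex_add, ex_add, add_comm]
  have hneg : s ≠ chevF4.neg r := by
    rintro rfl
    rw [vec_neg isType hr] at hab
    have e : qf AF d (vec chevF4 4 r) (-vec chevF4 4 r) = -qf AF d (vec chevF4 4 r) (vec chevF4 4 r) := by
      unfold qf pairing
      simp
    rw [e, hna] at hab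
    omega
  have h3 := tab_R r (mem_longs hr hna) s (List.mem_range.2 (lt48 hs)) hsr hab
  rw [← commutatorElement_eq_one_iff_mul_comm]
  apply Subtype.ext
  rw [comm_ex hr hs hsr hneg]
  have h8 : chevF4.commWord K r s (-t) (-u) = [] := by
    show (chevF4.commTerms r s).map _ = _
    rw [h3]
    rfl
  rw [h8, wordG_nil]
  rfl

/-- root groups are abelian -/
theorem comm_self {a : Fin 4 → ℤ} (ha : IsRoot cs isType.isCartan a) {x v : ↥(chevF4.group K)}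
    (hx : x ∈ XX chevF4 4 K a) (hv : v ∈ XX chevF4 4 K a) : v * x = x * v := by
  obtain ⟨r, hr, rfl⟩ := (isRoot_iff isType cs a).1 ha
  obtain ⟨t, rfl⟩ := (mem_XX hr).1 hx
  obtain ⟨u, rfl⟩ := (mem_XX hr).1 hv
  rw [ex_add, ex_add, add_comm]

end Cfsg.Agent.H899.RG.Short
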